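import Groth.Agent.SerreReg.Descent
import Mathlib

/-!
A finite tame group generated by pseudo-reflections: the ring is free over the invariants.
-/

set_option autoImplicit false

open TensorProduct IsLocalRing

namespace Groth.Agent.ReflInv

universe u

section Refl

variable {k A : Type u} [Field k] [CommRing A] [IsLocalRing A] [IsNoetherianRing A] [Algebra k A]

/-- an automorphism of finite order prime to the characteristic moving the cotangent space along a line
has principal difference ideal -/
lemma exists_span_diff (σ : A ≃ₐ[k] A) (m : ℕ) (hm : (m : k) ≠ 0) (hord : σ ^ m = 1)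
    (hsurj : ∀ a : A, ∃ c : k, a - algebraMap k A c ∈ maximalIdeal A) (w : A)
    (hw : ∀ a : A, ∃ c : k, σ a - a - c • w ∈ maximalIdeal A ^ 2) :
    ∃ δ ∈ maximalIdeal A, ∀ a : A, σ a - a ∈ Ideal.span {δ} := by
  let M := maximalIdeal A
  let J : Ideal A := Ideal.span (Set.range fun a => σ a - a)
  have hJ : ∀ a, σ a - a ∈ J := fun a => Ideal.subset_span ⟨a, rfl⟩
  have hσM : ∀ a ∈ M, σ a ∈ M := fun a ha => by
    simpa [M, IsLocalRing.mem_maximalIdeal, map_mem_nonunits_iff] using ha
  have hdM : ∀ a, σ a - a ∈ M := fun a => by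
    obtain ⟨c, hc⟩ := hsurj a
    have : σ a - a = σ (a - algebraMap k A c) - (a - algebraMap k A c) := by simp
    rw [this]
    exact sub_mem (hσM _ hc) hc
  have hdsq : ∀ a ∈ M ^ 2, σ a - a ∈ M * J := by
    intro a ha
    rw [pow_two] at ha
    refine Submodule.mul_induction_on ha (fun p hp q hq => ?_) fun p q hp hq => ?_
    · have : σ (p * q) - p * q = σ q * (σ p - p) + p * (σ q - q) := by rw [map_mul]; ring
      rw [this]
      exact add_mem (Ideal.mul_mem_mul (hσM q hq) (hJ p)) (Ideal.mul_mem_mul hp (hJ q))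
    · have : σ (p + q) - (p + q) = (σ p - p) + (σ q - q) := by rw [map_add]; ring
      rw [this]
      exact add_mem hp hq
  have hdec : ∀ a : A, ∃ p b : A, σ p = p ∧ a = p + (σ b - b) := by
    intro a
    let f : ℕ → A := fun i => (σ ^ i) a
    have hs : ∀ j, σ (∑ i ∈ Finset.range j, f i) = (∑ i ∈ Finset.range j, f (i + 1)) := fun j => by
      rw [map_sum]
      refine Finset.sum_congr rfl fun i _ => ?_
      show σ ((σ ^ i) a) = (σ ^ (i + 1)) a
      rw [pow_succ', AlgEquiv.mul_apply]
    have hd : ∀ j, σ (∑ i ∈ Finset.range j, f i) - ∑ i ∈ Finset.range j, f i = f j - f 0 := fun j => by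
      rw [hs, ← Finset.sum_sub_distrib, Finset.sum_range_sub]
    have hf : f m = f 0 := by show (σ ^ m) a = (σ ^ 0) a; rw [hord, pow_zero]
    refine ⟨(m : k)⁻¹ • ∑ i ∈ Finset.range m, f i,
      -((m : k)⁻¹ • ∑ j ∈ Finset.range m, ∑ i ∈ Finset.range j, f i), ?_, ?_⟩
    · rw [map_smul]
      congr 1
      have := hd m
      rw [hf, sub_self, sub_eq_zero] at this
      exact this
    · rw [map_neg, map_smul, neg_sub_neg, ← smul_sub, ← neg_sub (σ _), map_sum, ← Finset.sum_sub_distrib,
        ← smul_add, ← sub_eq_add_neg, ← Finset.sum_sub_distrib]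
      simp only [hd, sub_sub_cancel, Finset.sum_const, Finset.card_range, f, pow_zero, AlgEquiv.one_apply]
      rw [← Nat.cast_smul_eq_nsmul k, inv_smul_smul₀ hm]
  let δ := σ w - w
  refine ⟨δ, hdM w, ?_⟩
  have hle : J ≤ Ideal.span {δ} ⊔ M • J := by
    rw [Ideal.span_le]
    rintro _ ⟨a, rfl⟩
    obtain ⟨p, b, hp, rfl⟩ := hdec a
    obtain ⟨c, hc⟩ := hw b
    have : σ (p + (σ b - b)) - (p + (σ b - b))
        = c • δ + (σ (σ b - b - c • w) - (σ b - b - c • w)) := by
      simp only [δ, map_add, map_sub, map_smul, smul_sub, hp]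
      ring
    show σ (p + (σ b - b)) - (p + (σ b - b)) ∈ _
    rw [this]
    refine add_mem (Ideal.mem_sup_left ?_) (Ideal.mem_sup_right ?_)
    · rw [Algebra.smul_def]
      exact Ideal.mul_mem_left _ _ (Ideal.mem_span_singleton_self δ)
    · rw [smul_eq_mul]
      exact hdsq _ hc
  exact fun a => Submodule.le_of_le_smul_of_le_jacobson_bot (IsNoetherian.noetherian J)
    (IsLocalRing.maximalIdeal_le_jacobson ⊥) hle (hJ a)

end Refl

section Flat

variable {R A G : Type u} [CommRing R] [CommRing A] [IsDomain A] [IsLocalRing A] [Algebra R A] [Group G] [Fintype G]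
  [MulSemiringAction G A] [SMulCommClass G R A]

/-- Serre's argument -/
theorem free_of_reflections [IsLocalRing R] [IsNoetherianRing R] [IsNoetherianRing A] [Module.Finite R A]
    (hinv : ∀ a : A, (∀ g : G, g • a = a) → a ∈ Set.range (algebraMap R A))
    (hinj : Function.Injective (algebraMap R A)) (hcard : IsUnit (Fintype.card G : A))
    (S : Set G) (hS : Subgroup.closure S = ⊤)
    (hdiff : ∀ g ∈ S, ∃ δ ∈ maximalIdeal A, ∀ a : A, g • a - a ∈ Ideal.span {δ}) :
    Module.Free R A := by
  haveI : Module.FinitePresentation R A := Module.finitePresentation_of_finite R A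
  refine Module.free_of_maximalIdeal_rTensor_injective ?_
  rw [← LinearMap.lTensor_inj_iff_rTensor_inj]
  let 𝔪 := maximalIdeal R
  let μ : A ⊗[R] 𝔪 →ₗ[A] A ⊗[R] R := LinearMap.baseChange A 𝔪.subtype
  let K := LinearMap.ker μ
  let T : (A →ₗ[R] A) → (A ⊗[R] 𝔪 →ₗ[R] A ⊗[R] 𝔪) := fun φ => φ.rTensor 𝔪
  have hT : ∀ (φ : A →ₗ[R] A) (z : A ⊗[R] 𝔪), μ (T φ z) = φ.rTensor R (μ z) := fun φ z => by
    show (𝔪.subtype.lTensor A) (φ.rTensor 𝔪 z) = φ.rTensor R (𝔪.subtype.lTensor A z)
    rw [← LinearMap.comp_apply, ← LinearMap.comp_apply, LinearMap.lTensor_comp_rTensor,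
      LinearMap.rTensor_comp_lTensor]
  have hK : ∀ (φ : A →ₗ[R] A), ∀ z ∈ K, T φ z ∈ K := fun φ z hz => by
    rw [LinearMap.mem_ker] at hz ⊢
    rw [hT, hz, map_zero]
  let act : G → (A →ₗ[R] A) := fun g => DistribSMul.toLinearMap R A g
  have hact : ∀ (g : G) (a : A) (z : A ⊗[R] 𝔪), T (act g) (a • z) = (g • a) • T (act g) z := by
    intro g a z
    induction z using TensorProduct.induction_on with
    | zero => simp
    | tmul b x => simp [T, act, TensorProduct.smul_tmul', smul_mul']
    | add z z' hz hz' => simp only [smul_add, map_add, hz, hz']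
  have hgen : ∀ g ∈ S, ∀ z ∈ K, T (act g) z - z ∈ maximalIdeal A • K := by
    intro g hg z hz
    obtain ⟨δ, hδ, hd⟩ := hdiff g hg
    by_cases h0 : δ = 0
    · have : act g = LinearMap.id := LinearMap.ext fun a => by
        have := hd a
        rw [h0, Ideal.span_singleton_zero, Ideal.mem_bot, sub_eq_zero] at this
        exact this
      simp [T, this]
    choose hq hhq using fun a => Ideal.mem_span_singleton'.1 (hd a)
    let hh : A →ₗ[R] A :=
      { toFun := hq
        map_add' := fun a b => mul_right_cancel₀ h0 (by rw [add_mul, hhq, hhq, hhq, smul_add]; ring)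
        map_smul' := fun r a => mul_right_cancel₀ h0 (by
          rw [RingHom.id_apply, smul_mul_assoc, hhq, hhq, smul_comm g r a, smul_sub]) }
    have hφ : act g = LinearMap.id + (LinearMap.mulLeft R δ).comp hh := LinearMap.ext fun a => by
      show g • a = a + δ * hq a
      rw [mul_comm, hhq]; ring
    have hmul : ∀ y : A ⊗[R] 𝔪, T (LinearMap.mulLeft R δ) y = δ • y := by
      intro y
      induction y using TensorProduct.induction_on with
      | zero => simp
      | tmul b x => simp [T, TensorProduct.smul_tmul']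
      | add y y' hy hy' => simp only [smul_add, map_add, hy, hy']
    have h1 : T (act g) z - z = δ • T hh z := by
      rw [← hmul]
      simp [T, hφ, LinearMap.rTensor_add, LinearMap.rTensor_comp]
    rw [h1]
    exact Submodule.smul_mem_smul hδ (hK _ z hz)
  have hMK : ∀ (g : G), ∀ y ∈ maximalIdeal A • K, T (act g) y ∈ maximalIdeal A • K := by
    intro g y hy
    refine Submodule.smul_induction_on hy (fun a ha z hz => ?_) fun y y' hy hy' => by
      rw [map_add]; exact add_mem hy hy'
    rw [hact]
    refine Submodule.smul_mem_smul ?_ (hK _ z hz)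
    simpa [IsLocalRing.mem_maximalIdeal, MulSemiringAction.toRingEquiv_apply] using
      (map_mem_nonunits_iff (MulSemiringAction.toRingEquiv G A g) a).2 (by simpa using ha)
  have hall : ∀ g : G, ∀ z ∈ K, T (act g) z - z ∈ maximalIdeal A • K := by
    intro g
    have hg : g ∈ Subgroup.closure S := hS ▸ Subgroup.mem_top g
    have hmul : ∀ (g h : G) (z : A ⊗[R] 𝔪), T (act (g * h)) z = T (act g) (T (act h) z) := fun g h z => by
      show _ = ((act g).rTensor 𝔪 ∘ₗ (act h).rTensor 𝔪) z
      rw [← LinearMap.rTensor_comp]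
      exact congrArg (fun φ : A →ₗ[R] A => φ.rTensor 𝔪 z) (LinearMap.ext fun a => mul_smul g h a)
    have hone : act 1 = LinearMap.id := LinearMap.ext fun a => one_smul G a
    induction hg using Subgroup.closure_induction with
    | mem g hg => exact hgen g hg
    | one => intro z _; simp [T, hone]
    | mul g h _ _ ihg ihh =>
      intro z hz
      have h1 : T (act (g * h)) z - z = (T (act g) (T (act h) z) - T (act h) z) + (T (act h) z - z) := by
        rw [hmul]; abel
      rw [h1]
      exact add_mem (ihg _ (hK _ z hz)) (ihh z hz)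
    | inv g _ ih =>
      intro z hz
      have h1 : T (act g⁻¹) z - z = -(T (act g⁻¹) (T (act g) z - z)) := by
        rw [map_sub, ← hmul, inv_mul_cancel, hone]; simp [T]
      rw [h1]
      exact neg_mem (hMK _ _ (ih z hz))
  have hsum : ∀ z ∈ K, ∑ g : G, T (act g) z = 0 := by
    intro z hz
    have hfix : ∀ (a : A) (h : G), h • (∑ g : G, g • a) = ∑ g : G, g • a := fun a h => by
      rw [Finset.smul_sum]
      simp_rw [← mul_smul]
      exact Equiv.sum_comp (Equiv.mulLeft h) (fun g => g • a)
    let ι := Algebra.linearMap R A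
    let e : R ≃ₗ[R] LinearMap.range ι := LinearEquiv.ofInjective ι hinj
    let π : A →ₗ[R] R := e.symm.toLinearMap ∘ₗ
      (∑ g : G, act g).codRestrict (LinearMap.range ι) fun a => by
        simpa [ι, act] using hinv _ (hfix a)
    have hπ : ∑ g : G, act g = ι ∘ₗ π := by
      refine LinearMap.ext fun a => ?_
      show _ = ι (e.symm _)
      rw [← LinearEquiv.ofInjective_apply ι (h := hinj), LinearEquiv.apply_symm_apply]
      rfl
    have h1 : ∑ g : G, T (act g) z = ι.rTensor 𝔪 (π.rTensor 𝔪 z) := by
      rw [← LinearMap.comp_apply, ← LinearMap.rTensor_comp, ← hπ, ← LinearMap.sum_apply]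
      exact congrArg (fun φ : A ⊗[R] 𝔪 →ₗ[R] A ⊗[R] 𝔪 => φ z) (map_sum (LinearMap.rTensorHom 𝔪) _ _).symm
    have h2 : π.rTensor 𝔪 z = 0 := by
      refine Module.Flat.lTensor_preserves_injective_linearMap (M := R) 𝔪.subtype 𝔪.subtype_injective ?_
      rw [map_zero, ← LinearMap.comp_apply, LinearMap.lTensor_comp_rTensor, ← LinearMap.rTensor_comp_lTensor,
        LinearMap.comp_apply]
      rw [LinearMap.mem_ker] at hz
      rw [show 𝔪.subtype.lTensor A z = 0 from hz, map_zero]
    rw [h1, h2, map_zero]
  have hKtop : K ≤ maximalIdeal A • K := by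
    intro z hz
    have h1 : ∑ g : G, (T (act g) z - z) ∈ maximalIdeal A • K := sum_mem fun g _ => hall g z hz
    rw [Finset.sum_sub_distrib, hsum z hz, Finset.sum_const, Finset.card_univ, zero_sub, neg_mem_iff,
      ← Nat.cast_smul_eq_nsmul A] at h1
    obtain ⟨u, hu⟩ := hcard
    have := Submodule.smul_mem _ (↑u⁻¹ : A) h1
    rwa [smul_smul, ← hu, Units.inv_mul, one_smul] at this
  have hbot : K = ⊥ := Submodule.eq_bot_of_le_smul_of_le_jacobson_bot _ K (IsNoetherian.noetherian K) hKtop
    (IsLocalRing.maximalIdeal_le_jacobson ⊥)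
  exact (LinearMap.ker_eq_bot (f := μ)).1 hbot

end Flat

section Main

variable (k A G : Type u) [Field k] [CommRing A] [IsRegularLocalRing A] [IsDomain A] [Algebra k A] [Group G] [Fintype G]
  [MulSemiringAction G A] [SMulCommClass G k A]

theorem main [FaithfulSMul G A] [Module.Finite (FixedPoints.subalgebra k A G) A] (hG : (Fintype.card G : k) ≠ 0)
    (hsurj : ∀ a : A, ∃ c : k, a - algebraMap k A c ∈ maximalIdeal A)
    (S : Set G) (hS : Subgroup.closure S = ⊤)
    (hdiff : ∀ g ∈ S, ∃ w : A, ∀ a : A, ∃ c : k, g • a - a - c • w ∈ maximalIdeal A ^ 2) :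
    Module.Flat (FixedPoints.subalgebra k A G) A ∧ IsRegularLocalRing (FixedPoints.subalgebra k A G) := by
  let R := FixedPoints.subalgebra k A G
  have hinj : Function.Injective (algebraMap R A) := Subtype.val_injective
  haveI : IsLocalHom (algebraMap R A) := ⟨fun r hr => by
    obtain ⟨u, hu⟩ := hr
    have hmem : ∀ g : G, g • (↑u⁻¹ : A) = ↑u⁻¹ := fun g => by
      refine u.isUnit.mul_left_cancel ?_
      rw [Units.mul_inv]
      calc (u : A) * g • (↑u⁻¹ : A) = g • (u : A) * g • (↑u⁻¹ : A) := by rw [hu, show g • (algebraMap R A r) = algebraMap R A r from r.2 g]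
        _ = 1 := by rw [← smul_mul', Units.mul_inv, smul_one]
    exact isUnit_iff_exists_inv.2 ⟨⟨_, hmem⟩, Subtype.ext (show (r : A) * _ = 1 by rw [show (r : A) = u from hu.symm, Units.mul_inv])⟩⟩
  haveI : IsLocalRing R := RingHom.domain_isLocalRing (algebraMap R A)
  haveI : SMulCommClass G R A := ⟨fun g r a => by
    show g • ((r : A) * a) = (r : A) * g • a
    rw [smul_mul', r.2 g]⟩
  have hcard : IsUnit (Fintype.card G : A) := by
    simpa using (isUnit_iff_ne_zero.2 hG).map (algebraMap k A)
  haveI : IsNoetherianRing R := by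
    let c : A := algebraMap k A (Fintype.card G : k)⁻¹
    have hc : (Fintype.card G : A) * c = 1 := by
      rw [← map_natCast (algebraMap k A), ← map_mul, mul_inv_cancel₀ hG, map_one]
    have hcR : ∀ g : G, g • c = c := fun g => by
      rw [show c = (Fintype.card G : k)⁻¹ • (1 : A) from Algebra.algebraMap_eq_smul_one _, smul_comm, smul_one]
    let avg : A →ₗ[R] R :=
      { toFun := fun a => ⟨c * ∑ g : G, g • a, fun h => by
          rw [smul_mul', hcR, Finset.smul_sum]
          simp_rw [← mul_smul]
          exact congrArg (c * ·) (Equiv.sum_comp (Equiv.mulLeft h) (fun g => g • a))⟩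
        map_add' := fun a b => Subtype.ext (by simp [smul_add, Finset.sum_add_distrib, mul_add])
        map_smul' := fun r a => Subtype.ext (by
          show c * ∑ g : G, g • ((r : A) * a) = (r : A) * (c * ∑ g : G, g • a)
          simp_rw [smul_mul', r.2 _, ← Finset.mul_sum]
          ring) }
    have havg : ∀ r : R, avg (algebraMap R A r) = r := fun r => Subtype.ext (by
      show c * ∑ g : G, g • (r : A) = r
      simp_rw [r.2 _, Finset.sum_const, Finset.card_univ, nsmul_eq_mul]
      rw [← mul_assoc, mul_comm c, hc, one_mul])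
    have hmono : StrictMono fun I : Ideal R => I.map (algebraMap R A) := by
      refine Monotone.strictMono_of_injective (fun I J h => Ideal.map_mono h) (fun I J h => ?_)
      have key : ∀ I : Ideal R, (I.map (algebraMap R A)).comap (algebraMap R A) = I := fun I => by
        refine le_antisymm (fun r hr => ?_) Ideal.le_comap_map
        rw [← havg r]
        refine (?_ : ∀ x ∈ I.map (algebraMap R A), avg x ∈ I) _ hr
        intro x hx
        rw [Ideal.map] at hx
        have : ∀ a : A, ∀ y ∈ algebraMap R A '' (I : Set R), avg (a * y) ∈ I := by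
          rintro a _ ⟨i, hi, rfl⟩
          rw [mul_comm, ← Algebra.smul_def, map_smul]
          exact I.mul_mem_right _ hi
        obtain ⟨c, hc⟩ := (Finsupp.mem_span_iff_linearCombination A _ x).1 hx
        rw [← hc, Finsupp.linearCombination_apply, map_finsuppSum]
        exact Submodule.sum_mem _ fun y _ => this _ _ y.2
      rw [← key I, ← key J]
      exact congrArg _ h
    exact isNoetherianRing_iff.2 (isNoetherian_iff'.2 hmono.wellFoundedGT)
  have hfree : Module.Free R A := by
    refine free_of_reflections (fun a ha => ⟨⟨a, ha⟩, rfl⟩) hinj hcard S hS fun g hg => ?_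
    obtain ⟨w, hw⟩ := hdiff g hg
    refine exists_span_diff (MulSemiringAction.toAlgEquiv k A g) (orderOf g) ?_ ?_ hsurj w hw
    · intro h0
      obtain ⟨q, hq⟩ := orderOf_dvd_card (x := g)
      exact hG (by rw [hq, Nat.cast_mul, h0, zero_mul])
    · refine AlgEquiv.ext fun a => ?_
      have : ∀ j : ℕ, ((MulSemiringAction.toAlgEquiv k A g) ^ j) a = g ^ j • a := by
        intro j
        induction j with
        | zero => simp
        | succ j ih => rw [pow_succ', pow_succ', mul_smul, AlgEquiv.mul_apply, ih]; rfl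
      rw [this, pow_orderOf_eq_one, one_smul]
      rfl
  haveI := hfree
  exact ⟨inferInstance, SerreReg.isRegularLocalRing_of_flat R A⟩

end Main

end Groth.Agent.ReflInv
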